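import Cfsg.Agent.H867.Gs.LongSL
import Cfsg.Agent.H441.GS.Chain

/-!
# S4327: the start over a prime field in a root group datum (helper867)

`R : RGD cs h p T n X`, `L : LongR R r`, `Nat.card (X r)` prime, `a` maps `X (-r)` onto `X r`, `⟨r, b⟩ = -1`:

* `start_rgd` : five conjugates of `a` reach a group containing `X (±r)`, `X (±b)`, `X (±(r + b))`.
-/

set_option autoImplicit false
set_option linter.unusedSectionVars false

namespace Cfsg.Agent.H867.Gs.PrimeStart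

open Cfsg.Agent.H915.Gs (Reach im Gn mem_Gn)
open Cfsg.Agent.H164.Gs (Cc)
open Cfsg.Agent.H867.Gs.LongSL

/-! ### Abstract part -/

section Abs

variable {Y : Type*} [Group Y] {X0 X2 X4 X6 X8 X10 : Subgroup Y}

/-- **four conjugates** -/
theorem reach_four {a b : MulAut Y} {g : Y} (hb : b = MulAut.conj g * a * (MulAut.conj g)⁻¹)
    (hbim : ∀ x ∈ X0, b x ∈ X6) (p0 : (Nat.card X0).Prime) (p2 : (Nat.card X2).Prime) (p4 : (Nat.card X4).Prime)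
    (cc02 : Cc X0 X2) (cc46 : Cc X4 X6) (cn624 : Cn X6 X2 X4) (cn042 : Cn X0 X4 X2) :
    ∃ x ∈ X0, ∃ y ∈ X6, x ≠ 1 ∧ y ≠ 1 ∧ Reach a 4 (X2 ⊔ X4 ⊔ Subgroup.zpowers (x⁻¹ * y)) := by
  obtain ⟨x, hx, hx1⟩ := exists_ne p0
  obtain ⟨v, hv, hv1⟩ := exists_ne p2
  obtain ⟨w1, w2⟩ := four (x := x) (v := v) hb
  have hy : b x ∈ X6 := hbim x hx
  have hy1 : b x ≠ 1 := fun h => hx1 (b.injective (by rw [h, map_one]))
  refine ⟨x, hx, b x, hy, hx1, hy1, ![g, x⁻¹ * g, v * g, v * x⁻¹ * g], ?_⟩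
  set f : Fin 4 → Y := ![g, x⁻¹ * g, v * g, v * x⁻¹ * g] with hf
  set K : Subgroup Y := pull (Gn a f) with hK
  generalize b x = y at hy hy1 w1 w2
  have hz : (x⁻¹ * y)⁻¹ * (v * (x⁻¹ * y) * v⁻¹) = y⁻¹ * v * y * v⁻¹ := by
    have h1 := cc02 x hx v hv
    have h2 : v * x⁻¹ = x⁻¹ * v := by
      rw [eq_inv_mul_iff_mul_eq, ← mul_assoc, h1, mul_inv_cancel_right]
    calc (x⁻¹ * y)⁻¹ * (v * (x⁻¹ * y) * v⁻¹) = y⁻¹ * x * (v * x⁻¹) * y * v⁻¹ := by group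
      _ = y⁻¹ * v * y * v⁻¹ := by rw [h2]; group
  obtain ⟨n1, n2⟩ := cn624 y⁻¹ (inv_mem hy) (inv_ne_one.2 hy1) v hv hv1
  rw [inv_inv] at n1 n2
  have hzK : y⁻¹ * v * y * v⁻¹ ∈ K := by
    rw [← hz]
    exact mul_mem (inv_mem w1) w2
  generalize y⁻¹ * v * y * v⁻¹ = z at n1 n2 hzK
  have k4 : X4 ≤ K := le_of_prime p4 n1 n2 hzK
  have hw : (x⁻¹ * y) * z * (x⁻¹ * y)⁻¹ * z⁻¹ = x⁻¹ * z * x⁻¹⁻¹ * z⁻¹ := by
    have h1 := cc46 z n1 y hy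
    calc (x⁻¹ * y) * z * (x⁻¹ * y)⁻¹ * z⁻¹ = x⁻¹ * (y * z) * y⁻¹ * x * z⁻¹ := by group
      _ = x⁻¹ * z * x⁻¹⁻¹ * z⁻¹ := by rw [← h1]; group
  obtain ⟨n3, n4⟩ := cn042 x⁻¹ (inv_mem hx) (inv_ne_one.2 hx1) z n1 n2
  rw [← hw] at n3 n4
  have k2 : X2 ≤ K := le_of_prime p2 n3 n4 (mul_mem (mul_mem (mul_mem w1 hzK) (inv_mem w1)) (inv_mem hzK))
  rw [Subgroup.map_le_iff_le_comap]
  exact sup_le (sup_le k2 k4) (by rw [Subgroup.zpowers_le]; exact w1)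

/-- **the end** -/
theorem all_le {x y : Y} (hx : x ∈ X0) (hy : y ∈ X6) (hx1 : x ≠ 1) (hy1 : y ≠ 1) {J : Subgroup Y}
    (p0 : (Nat.card X0).Prime) (p2 : (Nat.card X2).Prime) (p4 : (Nat.card X4).Prime) (p6 : (Nat.card X6).Prime)
    (p8 : (Nat.card X8).Prime) (p10 : (Nat.card X10).Prime)
    (cc100 : Cc X10 X0) (cn6108 : Cn X6 X10 X8) (cn0810 : Cn X0 X8 X10) (cn1020 : Cn X10 X2 X0)
    (cn486 : Cn X4 X8 X6) (j2 : X2 ≤ J) (j4 : X4 ≤ J) (j10 : X10 ≤ J) (jw : x⁻¹ * y ∈ J) :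
    X0 ≤ J ∧ X6 ≤ J ∧ X8 ≤ J := by
  obtain ⟨u, hu, hu1⟩ := exists_ne p10
  obtain ⟨v, hv, hv1⟩ := exists_ne p2
  obtain ⟨z, hz, hz1⟩ := exists_ne p4
  obtain ⟨n5, n6⟩ := cn6108 y hy hy1 u hu hu1
  have hu2 : (x⁻¹ * y) * u * (x⁻¹ * y)⁻¹ * u⁻¹ = x⁻¹ * (y * u * y⁻¹ * u⁻¹) * x := by
    have h1 := cc100 u hu x hx
    have h2 : x * u⁻¹ = u⁻¹ * x := by
      rw [eq_inv_mul_iff_mul_eq, ← mul_assoc, h1, mul_inv_cancel_right]
    calc (x⁻¹ * y) * u * (x⁻¹ * y)⁻¹ * u⁻¹ = x⁻¹ * (y * u * y⁻¹) * (x * u⁻¹) := by group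
      _ = x⁻¹ * (y * u * y⁻¹ * u⁻¹) * x := by rw [h2]; group
  have m1 : x⁻¹ * (y * u * y⁻¹ * u⁻¹) * x ∈ J := by
    rw [← hu2]
    exact mul_mem (mul_mem (mul_mem jw (j10 hu)) (inv_mem jw)) (inv_mem (j10 hu))
  generalize y * u * y⁻¹ * u⁻¹ = z8 at n5 n6 m1
  obtain ⟨n7, n8⟩ := cn0810 x⁻¹ (inv_mem hx) (inv_ne_one.2 hx1) z8 n5 n6
  have m2 : z8 ∈ J := by
    have e : z8 = (x⁻¹ * z8 * x⁻¹⁻¹ * z8⁻¹)⁻¹ * (x⁻¹ * z8 * x) := by group
    rw [e]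
    exact mul_mem (inv_mem (j10 n7)) m1
  have j8 : X8 ≤ J := le_of_prime p8 n5 n6 m2
  refine ⟨?_, ?_, j8⟩
  · obtain ⟨h1, h2⟩ := cn1020 u hu hu1 v hv hv1
    exact le_of_prime p0 h1 h2 (mul_mem (mul_mem (mul_mem (j10 hu) (j2 hv)) (inv_mem (j10 hu))) (inv_mem (j2 hv)))
  · obtain ⟨h1, h2⟩ := cn486 z hz hz1 z8 n5 n6
    exact le_of_prime p6 h1 h2 (mul_mem (mul_mem (mul_mem (j4 hz) (j8 n5)) (inv_mem (j4 hz))) (inv_mem (j8 n5)))

end Abs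

/-! ### Root group data -/

section Rgd

open CoxeterSystem Cfsg.Agent.ChevalleyStructure.CoxeterGeom Cfsg.Agent.Tits.Roots Cfsg.Agent.Tits.Core
  Cfsg.Agent.Tits.Exchange Cfsg.Agent.Nodes.Reps Cfsg.Agent.Nodes.BNOf Cfsg.Agent.Nodes.StabComb
  Cfsg.Agent.Nodes.Bruhat Cfsg.Agent.Nodes.OppDec Cfsg.Agent.Nodes.PosPair Cfsg.Agent.Nodes.Coroot
  Cfsg.Agent.KFacts.RgdSL
open Cfsg.Agent.H441.GS
open scoped commutatorElement

variable {I W Y : Type*} [Fintype I] [DecidableEq I] [Group W] [Group Y] {M : CoxeterMatrix I}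
  {cs : CoxeterSystem M W} {A : I → I → ℤ} {h : IsCartan M A} {p : ℕ} {T : Subgroup Y} {n : I → Y}
  {X : (I → ℤ) → Subgroup Y} (R : RGD cs h p T n X) [Finite W]

include R

theorem card_orb {r x : I → ℤ} (hr : IsRoot cs h r) (hx : Orb cs h r x) : Nat.card (X x) = Nat.card (X r) := by
  obtain ⟨w, rfl⟩ := hx
  obtain ⟨g, hg⟩ := exists_rp cs R.nsys w
  have h1 : (X r).map (MulAut.conj g).toMonoidHom = X (rep cs h w r) := R.conj_rp hg hr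
  rw [← h1]
  exact card_conj g

variable {R}

omit [Finite W] in
theorem cn_of {r : I → ℤ} (L : LongR R r) {x y z : I → ℤ} (hx : Orb cs h r x) (hy : Orb cs h r y)
    (hxy : cpr cs h x y = -1) (hz : x + y = z) : Cn (X x) (X y) (X z) := by
  intro u hu hu1 v hv hv1
  rw [← hz]
  exact ⟨L.mem x y hx hy hxy u hu v hv, L.ne x y hx hy hxy u hu hu1 v hv hv1⟩

/-- **the start over a prime field**: five conjugates of `a` reach an `A₂` of long root groups -/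
theorem start_rgd {a : MulAut Y} {r : I → ℤ} (L : LongR R r) (hp : (Nat.card (X r)).Prime)
    (ha : ∀ z, a z ∈ X r ↔ z ∈ X (-r)) {b : I → ℤ} (hb : Orb cs h r b) (hrb : cpr cs h r b = -1) :
    ∃ J : Subgroup Y, Reach a 5 J ∧ X r ≤ J ∧ X (-r) ≤ J ∧ X b ≤ J ∧ X (-b) ≤ J ∧ X (r + b) ≤ J ∧ X (-(r + b)) ≤ J := by
  have hr := L.root
  have hbr' : IsRoot cs h b := hb.isRoot hr
  have or : Orb cs h r r := ⟨1, by rw [map_one]; rfl⟩
  have hbr : cpr cs h b r = -1 := by rw [← L.sym r b or hb, hrb]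
  have os : Orb cs h r (r + b) := by
    have h1 := hb.refl hr or
    rw [hbr] at h1
    have e : b - (-1 : ℤ) • r = r + b := by module
    rwa [e] at h1
  have onr := or.neg hr
  have onb := hb.neg hr
  have ons := os.neg hr
  have hs : IsRoot cs h (r + b) := os.isRoot hr
  have cadd : ∀ (x y : I → ℤ) {z : I → ℤ}, IsRoot cs h z → cpr cs h (x + y) z = cpr cs h x z + cpr cs h y z :=
    fun x y z hz => cpr_add cs h x y hz
  have c1 : cpr cs h (r + b) r = 1 := by rw [cadd _ _ hr, cpr_self cs h hr, hbr]; norm_num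
  have c2 : cpr cs h (r + b) b = 1 := by rw [cadd _ _ hbr', cpr_self cs h hbr', hrb]; norm_num
  have c1' : cpr cs h r (r + b) = 1 := by rw [L.sym r (r + b) or os, c1]
  have c2' : cpr cs h b (r + b) = 1 := by rw [L.sym b (r + b) hb os, c2]
  have P : ∀ x, Orb cs h r x → (Nat.card (X x)).Prime := fun x hx => by rw [card_orb R hr hx]; exact hp
  -- the relations
  have cc02 : Cc (X (-r)) (X b) := L.comm _ _ onr hb (by rw [cpr_neg_left _ hbr', hrb]; norm_num)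
  have cc46 : Cc (X (r + b)) (X r) := L.comm _ _ os or c1
  have cc100 : Cc (X (-(r + b))) (X (-r)) := L.comm _ _ ons onr (by
    rw [cpr_neg_left _ hr.neg, cpr_neg_right cs h _ hr, c1]; norm_num)
  have cn624 : Cn (X r) (X b) (X (r + b)) := cn_of L or hb hrb rfl
  have cn042 : Cn (X (-r)) (X (r + b)) (X b) := cn_of L onr os (by
    rw [cpr_neg_left _ hs, c1']) (by abel)
  have cn6108 : Cn (X r) (X (-(r + b))) (X (-b)) := cn_of L or ons (by rw [cpr_neg_right cs h _ hs, c1']) (by abel)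
  have cn0810 : Cn (X (-r)) (X (-b)) (X (-(r + b))) := cn_of L onr onb (by
    rw [cpr_neg_left _ hbr'.neg, cpr_neg_right cs h _ hbr', hrb]; norm_num) (by abel)
  have cn1020 : Cn (X (-(r + b))) (X b) (X (-r)) := cn_of L ons hb (by rw [cpr_neg_left _ hbr', c2]) (by abel)
  have cn486 : Cn (X (r + b)) (X (-b)) (X r) := cn_of L os onb (by rw [cpr_neg_right cs h _ hbr', c2]) (by abel)
  obtain ⟨x, hx, y, hy, hx1, hy1, r4⟩ := reach_four (a := a) (b := a) (g := 1) (X0 := X (-r)) (X6 := X r)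
    (by rw [map_one, one_mul, inv_one, mul_one]) (fun x hx => (ha x).2 hx) (P _ onr) (P _ hb) (P _ os) cc02 cc46 cn624
    cn042
  have r5 := root_step R hr ha (d := -(r + b)) ons r4 (g := 1) (by
    rw [neg_neg]
    refine le_trans ?_ (le_sup_right.trans le_sup_left : X (r + b) ≤ _)
    rintro _ ⟨z, hz, rfl⟩
    simpa using hz)
  refine ⟨_, r5, ?_⟩
  have hcj : X (-(r + b)) ≤ cj 1 (X (-(r + b))) := fun z hz => ⟨z, hz, by simp⟩
  have j2 : X b ≤ X b ⊔ X (r + b) ⊔ Subgroup.zpowers (x⁻¹ * y) ⊔ cj 1 (X (-(r + b))) :=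
    (le_sup_left.trans le_sup_left).trans le_sup_left
  have j4 : X (r + b) ≤ X b ⊔ X (r + b) ⊔ Subgroup.zpowers (x⁻¹ * y) ⊔ cj 1 (X (-(r + b))) :=
    (le_sup_right.trans le_sup_left).trans le_sup_left
  have j10 : X (-(r + b)) ≤ X b ⊔ X (r + b) ⊔ Subgroup.zpowers (x⁻¹ * y) ⊔ cj 1 (X (-(r + b))) :=
    hcj.trans le_sup_right
  have jw : x⁻¹ * y ∈ X b ⊔ X (r + b) ⊔ Subgroup.zpowers (x⁻¹ * y) ⊔ cj 1 (X (-(r + b))) :=
    (le_sup_right.trans le_sup_left : Subgroup.zpowers (x⁻¹ * y) ≤ _) (Subgroup.mem_zpowers _)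
  obtain ⟨k0, k6, k8⟩ := all_le hx hy hx1 hy1 (P _ onr) (P _ hb) (P _ os) (P _ or) (P _ onb) (P _ ons) cc100 cn6108
    cn0810 cn1020 cn486 j2 j4 j10 jw
  exact ⟨k6, k0, j2, k8, j4, j10⟩

end Rgd

end Cfsg.Agent.H867.Gs.PrimeStart
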