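import Cfsg.Agent.H164.Gs.HexLong

/-!
# S4327: the small field start in a hexagonal system (`G₂(3)`, `³D₄(2)`, `³D₄(3)`), helper867

`c : RGDZ 6 Y`, `P : HexPar σ c.X x1 … x6`, `F = Fix σ` of prime order, `OP a (X 0) (X 6)`:

* `start_prime` : `Reach a 5 (Long c)` (no assumption on `⟨X 0, X 6⟩`);
* `reach_g2`, `reach_td4`, `reach_td4_two` : `Reach a 6 ⊤`, `Reach a 8 ⊤`, `Reach a 10 ⊤`.
-/

set_option autoImplicit false
set_option linter.unusedSectionVars false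

namespace Cfsg.Agent.H867.Gs.LongSL

open Cfsg.Agent.H915.Gs (Reach im Gn mem_Gn)
open Cfsg.Agent.H400.Gs (OP)
open Cfsg.Agent.H164.Gs
open Cfsg.Agent.SplitTwo Cfsg.Agent.TitsThree.RankTwoIdx Cfsg.Agent.TitsThree.RankTwoZ
open Cfsg.Agent.RootSeq.Seg

/-! ### Abstract part -/

section Abs

variable {Y : Type*} [Group Y]

/-- commutators of non-trivial elements of `A` and `B` are non-trivial elements of `C` -/
def Cn (A B C : Subgroup Y) : Prop := ∀ u ∈ A, u ≠ 1 → ∀ v ∈ B, v ≠ 1 → u * v * u⁻¹ * v⁻¹ ∈ C ∧ u * v * u⁻¹ * v⁻¹ ≠ 1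

variable {A B C : Subgroup Y}

theorem Cn.conj (h : Cn A B C) (g : Y) : Cn (A.map (MulAut.conj g).toMonoidHom)
    (B.map (MulAut.conj g).toMonoidHom) (C.map (MulAut.conj g).toMonoidHom) := by
  rintro _ ⟨u, hu, rfl⟩ hu1 _ ⟨v, hv, rfl⟩ hv1
  have e : (MulAut.conj g).toMonoidHom u * (MulAut.conj g).toMonoidHom v * ((MulAut.conj g).toMonoidHom u)⁻¹ *
      ((MulAut.conj g).toMonoidHom v)⁻¹ = (MulAut.conj g).toMonoidHom (u * v * u⁻¹ * v⁻¹) := by
    simp only [map_mul, map_inv]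
  have inj : Function.Injective (MulAut.conj g).toMonoidHom := (MulAut.conj g).injective
  obtain ⟨h1, h2⟩ := h u hu (fun h => hu1 (by rw [h, map_one])) v hv (fun h => hv1 (by rw [h, map_one]))
  rw [e]
  exact ⟨⟨_, h1, rfl⟩, fun h3 => h2 (inj (by rw [h3, map_one]))⟩

theorem Cn.symm (h : Cn A B C) : Cn B A C := by
  intro u hu hu1 v hv hv1
  obtain ⟨h1, h2⟩ := h v hv hv1 u hu hu1
  have e : u * v * u⁻¹ * v⁻¹ = (v * u * v⁻¹ * u⁻¹)⁻¹ := by group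
  rw [e]
  exact ⟨inv_mem h1, inv_ne_one.2 h2⟩

/-- a group of prime order -/
theorem le_of_prime (hp : (Nat.card A).Prime) {z : Y} (hz : z ∈ A) (h1 : z ≠ 1) {K : Subgroup Y} (hK : z ∈ K) :
    A ≤ K := by
  have : Fact (Nat.card A).Prime := ⟨hp⟩
  have h2 : Subgroup.zpowers (⟨z, hz⟩ : A) = ⊤ := zpowers_eq_top_of_prime_card rfl (by
    intro h
    exact h1 (congrArg Subtype.val h))
  intro w hw
  have h3 : (⟨w, hw⟩ : A) ∈ Subgroup.zpowers (⟨z, hz⟩ : A) := by rw [h2]; trivial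
  obtain ⟨n, hn⟩ := Subgroup.mem_zpowers_iff.1 h3
  have h4 : z ^ n = w := congrArg Subtype.val hn
  rw [← h4]
  exact zpow_mem hK n

theorem exists_ne (hp : (Nat.card A).Prime) : ∃ z ∈ A, z ≠ 1 := by
  by_contra hcon
  push Not at hcon
  have : A = ⊥ := (Subgroup.eq_bot_iff_forall A).2 hcon
  rw [this, Subgroup.card_bot] at hp
  exact Nat.not_prime_one hp

theorem card_conj (g : Y) : Nat.card (A.map (MulAut.conj g).toMonoidHom) = Nat.card A :=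
  Subgroup.card_map_of_injective (MulAut.conj g).injective

/-- the elements whose inner automorphism lies in a group of automorphisms -/
def pull (G : Subgroup (MulAut Y)) : Subgroup Y := G.comap MulAut.conj

theorem mem_pull {G : Subgroup (MulAut Y)} {y : Y} : y ∈ pull G ↔ MulAut.conj y ∈ G := Iff.rfl

/-- **four conjugates**: `a x = y` with `x ∈ A` opposite to `y ∈ B`; `v` centralises `x` -/
theorem four {b : MulAut Y} {g x v : Y} {a : MulAut Y} (hb : b = MulAut.conj g * a * (MulAut.conj g)⁻¹) :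
    x⁻¹ * b x ∈ pull (Gn a ![g, x⁻¹ * g, v * g, v * x⁻¹ * g]) ∧
      v * (x⁻¹ * b x) * v⁻¹ ∈ pull (Gn a ![g, x⁻¹ * g, v * g, v * x⁻¹ * g]) := by
  set f : Fin 4 → Y := ![g, x⁻¹ * g, v * g, v * x⁻¹ * g] with hf
  have m0 : MulAut.conj g * a * (MulAut.conj g)⁻¹ ∈ Gn a f := mem_Gn a f 0
  have m1 : MulAut.conj (x⁻¹ * g) * a * (MulAut.conj (x⁻¹ * g))⁻¹ ∈ Gn a f := mem_Gn a f 1
  have m2 : MulAut.conj (v * g) * a * (MulAut.conj (v * g))⁻¹ ∈ Gn a f := mem_Gn a f 2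
  have m3 : MulAut.conj (v * x⁻¹ * g) * a * (MulAut.conj (v * x⁻¹ * g))⁻¹ ∈ Gn a f := mem_Gn a f 3
  have key : MulAut.conj (x⁻¹ * b x) = MulAut.conj (x⁻¹ * g) * a * (MulAut.conj (x⁻¹ * g))⁻¹ *
      (MulAut.conj g * a * (MulAut.conj g)⁻¹)⁻¹ := by
    have h1 : MulAut.conj (b x) = b * MulAut.conj x * b⁻¹ := (Cfsg.Agent.H915.Gs.conj_apply_mul b x).symm
    rw [map_mul, h1, hb, map_mul, map_inv]
    group
  have key2 : MulAut.conj (v * (x⁻¹ * b x) * v⁻¹) = MulAut.conj (v * x⁻¹ * g) * a * (MulAut.conj (v * x⁻¹ * g))⁻¹ *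
      (MulAut.conj (v * g) * a * (MulAut.conj (v * g))⁻¹)⁻¹ := by
    rw [map_mul, map_mul, key]
    simp only [map_mul, map_inv]
    group
  constructor
  · rw [mem_pull, key]
    exact mul_mem m1 (inv_mem m0)
  · rw [mem_pull, key2]
    exact mul_mem m3 (inv_mem m2)

end Abs

/-! ### The hexagonal system -/

section Hex

variable {Y : Type*} [Group Y] {c : RGDZ 6 Y} {E : Type*} [Field E] {σ : E ≃+* E} {x1 x2 x3 x4 x5 x6 : E → Y}
variable (P : HexPar σ c.X x1 x2 x3 x4 x5 x6)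
include P

theorem cn264 : Cn (c.X 2) (c.X 6) (c.X 4) := by
  intro u hu hu1 v hv hv1
  obtain ⟨s, hs, rfl⟩ := (P.mem2 u).1 hu
  obtain ⟨t, ht, rfl⟩ := (P.mem6 v).1 hv
  have h1 := P.rel.c26 (-s) (-t) (by rw [map_neg, hs]) (by rw [map_neg, ht])
  rw [i2 P hs, i6 P ht, neg_mul_neg] at h1
  have e : x2 s * x6 t * (x2 s)⁻¹ * (x6 t)⁻¹ = x4 (s * t) := by
    rw [← h1, kk]
    group
  rw [e]
  have hst : σ (s * t) = s * t := by rw [map_mul, hs, ht]
  refine ⟨m4 P hst, fun h => ?_⟩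
  rw [← z4 P] at h
  have h2 := P.inj4 _ _ hst (map_zero σ) h
  rcases mul_eq_zero.1 h2 with h3 | h3
  · exact hu1 (by rw [h3, z2 P])
  · exact hv1 (by rw [h3, z6 P])

theorem cn_rot (j : ℕ) {i1 i2 i3 : ZMod (2 * 6)} (h1 : i1 = 2 + 2 * j) (h2 : i2 = 6 + 2 * j)
    (h3 : i3 = 4 + 2 * j) : Cn (c.X i1) (c.X i2) (c.X i3) := by
  obtain ⟨r, hr⟩ := exists_rot c j
  have h := (cn264 P).conj r
  rw [map_X c hr, map_X c hr, map_X c hr] at h
  rw [h1, h2, h3]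
  exact h

omit P in
theorem card_rot (j : ℕ) {i1 : ZMod (2 * 6)} (h1 : i1 = 2 * j) : Nat.card (c.X i1) = Nat.card (c.X 0) := by
  obtain ⟨r, hr⟩ := exists_rot c j
  have h := card_conj (A := c.X 0) r
  rw [map_X c hr, zero_add] at h
  rw [h1, ← h]

variable {a : MulAut Y}

/-- **the start over a prime field**: five conjugates of `a` reach the long root groups -/
theorem start_prime (hp : (Nat.card (c.X 0)).Prime) (hO : OP a (c.X 0) (c.X 6)) : Reach a 5 (Long c) := by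
  have p2 : (Nat.card (c.X 2)).Prime := by rw [card_rot 1 (by decide)]; exact hp
  have p4 : (Nat.card (c.X 4)).Prime := by rw [card_rot 2 (by decide)]; exact hp
  have p6 : (Nat.card (c.X 6)).Prime := by rw [card_rot 3 (by decide)]; exact hp
  have p8 : (Nat.card (c.X 8)).Prime := by rw [card_rot 4 (by decide)]; exact hp
  have p10 : (Nat.card (c.X 10)).Prime := by rw [card_rot 5 (by decide)]; exact hp
  obtain ⟨g, hg⟩ := id hO
  set b : MulAut Y := MulAut.conj g * a * (MulAut.conj g)⁻¹ with hb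
  have hbim : ∀ x ∈ c.X 0, b x ∈ c.X 6 := by
    intro x hx
    rw [← hg]
    refine ⟨a (g⁻¹ * x * g), ⟨g⁻¹ * x * g, ⟨x, hx, ?_⟩, rfl⟩, ?_⟩
    · change g⁻¹ * x * g⁻¹⁻¹ = _
      rw [inv_inv]
    · change g * a (g⁻¹ * x * g) * g⁻¹ = g * a ((MulAut.conj g)⁻¹ x) * g⁻¹
      rw [← map_inv, MulAut.conj_apply, inv_inv]
  obtain ⟨x, hx, hx1⟩ := exists_ne hp
  obtain ⟨v, hv, hv1⟩ := exists_ne p2
  obtain ⟨w1, w2⟩ := four (x := x) (v := v) hb
  have hy : b x ∈ c.X 6 := hbim x hx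
  have hy1 : b x ≠ 1 := fun h => hx1 (b.injective (by rw [h, map_one]))
  set f : Fin 4 → Y := ![g, x⁻¹ * g, v * g, v * x⁻¹ * g] with hf
  set K : Subgroup Y := pull (Gn a f) with hK
  generalize b x = y at hy hy1 w1 w2
  have cc02 : Cc (c.X 0) (c.X 2) := cc24_rot P 5 (by decide) (by decide)
  have cc46 : Cc (c.X 4) (c.X 6) := cc24_rot P 1 (by decide) (by decide)
  have cc100 : Cc (c.X 10) (c.X 0) := cc24_rot P 4 (by decide) (by decide)
  have cc68 : Cc (c.X 6) (c.X 8) := cc24_rot P 2 (by decide) (by decide)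
  -- the group `X 4`
  have hz : (x⁻¹ * y)⁻¹ * (v * (x⁻¹ * y) * v⁻¹) = y⁻¹ * v * y * v⁻¹ := by
    have h1 := cc02 x hx v hv
    have h2 : v * x⁻¹ = x⁻¹ * v := by
      rw [eq_inv_mul_iff_mul_eq, ← mul_assoc, h1, mul_inv_cancel_right]
    calc (x⁻¹ * y)⁻¹ * (v * (x⁻¹ * y) * v⁻¹) = y⁻¹ * x * (v * x⁻¹) * y * v⁻¹ := by group
      _ = y⁻¹ * v * y * v⁻¹ := by rw [h2]; group
  obtain ⟨n1, n2⟩ := (cn_rot P 0 (i1 := 2) (i2 := 6) (i3 := 4) (by decide) (by decide) (by decide)).symm y⁻¹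
    (inv_mem hy) (inv_ne_one.2 hy1) v hv hv1
  rw [inv_inv] at n1 n2
  have hzK : y⁻¹ * v * y * v⁻¹ ∈ K := by
    rw [← hz]
    exact mul_mem (inv_mem w1) w2
  generalize y⁻¹ * v * y * v⁻¹ = z at n1 n2 hzK
  have k4 : c.X 4 ≤ K := le_of_prime p4 n1 n2 hzK
  -- the group `X 2`
  have hw : (x⁻¹ * y) * z * (x⁻¹ * y)⁻¹ * z⁻¹ = x⁻¹ * z * x⁻¹⁻¹ * z⁻¹ := by
    have h1 := cc46 z n1 y hy
    calc (x⁻¹ * y) * z * (x⁻¹ * y)⁻¹ * z⁻¹ = x⁻¹ * (y * z) * y⁻¹ * x * z⁻¹ := by group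
      _ = x⁻¹ * z * x⁻¹⁻¹ * z⁻¹ := by rw [← h1]; group
  obtain ⟨n3, n4⟩ := cn_rot P 5 (i1 := 0) (i2 := 4) (i3 := 2) (by decide) (by decide) (by decide) x⁻¹
    (inv_mem hx) (inv_ne_one.2 hx1) z n1 n2
  rw [← hw] at n3 n4
  have k2 : c.X 2 ≤ K := le_of_prime p2 n3 n4 (mul_mem (mul_mem (mul_mem w1 hzK) (inv_mem w1)) (inv_mem hzK))
  have r4 : Reach a 4 (c.X 2 ⊔ c.X 4 ⊔ Subgroup.zpowers (x⁻¹ * y)) := by
    refine ⟨f, ?_⟩
    rw [Subgroup.map_le_iff_le_comap]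
    exact sup_le (sup_le k2 k4) (by rw [Subgroup.zpowers_le]; exact w1)
  -- one more conjugate
  have hO4 : OP a (c.X 4) (c.X 10) := by
    obtain ⟨r, hr⟩ := exists_rot c 2
    have h := hO.conj r
    rw [map_X c hr, map_X c hr] at h
    have e1 : (0 : ZMod (2 * 6)) + 2 * ((2 : ℕ) : ZMod (2 * 6)) = 4 := by decide
    have e2 : (6 : ZMod (2 * 6)) + 2 * ((2 : ℕ) : ZMod (2 * 6)) = 10 := by decide
    rwa [e1, e2] at h
  have r5 := hO4.reach r4 (le_sup_right.trans le_sup_left)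
  refine r5.sub ?_
  set J : Subgroup Y := c.X 2 ⊔ c.X 4 ⊔ Subgroup.zpowers (x⁻¹ * y) ⊔ c.X 10 with hJ
  have j2 : c.X 2 ≤ J := (le_sup_left.trans le_sup_left).trans le_sup_left
  have j4 : c.X 4 ≤ J := (le_sup_right.trans le_sup_left).trans le_sup_left
  have j10 : c.X 10 ≤ J := le_sup_right
  have jw : x⁻¹ * y ∈ J := (le_sup_right.trans le_sup_left : Subgroup.zpowers (x⁻¹ * y) ≤ J)
    (Subgroup.mem_zpowers _)
  obtain ⟨u, hu, hu1⟩ := exists_ne p10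
  obtain ⟨n5, n6⟩ := cn_rot P 2 (i1 := 6) (i2 := 10) (i3 := 8) (by decide) (by decide) (by decide) y hy hy1 u hu hu1
  -- `w u w⁻¹ u⁻¹ = x⁻¹ z8 x`
  have hu2 : (x⁻¹ * y) * u * (x⁻¹ * y)⁻¹ * u⁻¹ = x⁻¹ * (y * u * y⁻¹ * u⁻¹) * x := by
    have h1 := cc100 u hu x hx
    have h2 : x * u⁻¹ = u⁻¹ * x := by
      rw [eq_inv_mul_iff_mul_eq, ← mul_assoc, h1, mul_inv_cancel_right]
    calc (x⁻¹ * y) * u * (x⁻¹ * y)⁻¹ * u⁻¹ = x⁻¹ * (y * u * y⁻¹) * (x * u⁻¹) := by group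
      _ = x⁻¹ * (y * u * y⁻¹ * u⁻¹) * x := by rw [h2]; group
  have m1 : x⁻¹ * (y * u * y⁻¹ * u⁻¹) * x ∈ J := by
    rw [← hu2]
    exact mul_mem (mul_mem (mul_mem jw (j10 hu)) (inv_mem jw)) (inv_mem (j10 hu))
  generalize y * u * y⁻¹ * u⁻¹ = z8 at n5 n6 m1
  obtain ⟨n7, n8⟩ := (cn_rot P 3 (i1 := 8) (i2 := 0) (i3 := 10) (by decide) (by decide) (by decide)).symm x⁻¹
    (inv_mem hx) (inv_ne_one.2 hx1) z8 n5 n6
  have m2 : z8 ∈ J := by
    have e : z8 = (x⁻¹ * z8 * x⁻¹⁻¹ * z8⁻¹)⁻¹ * (x⁻¹ * z8 * x) := by group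
    rw [e]
    exact mul_mem (inv_mem (j10 n7)) m1
  have j8 : c.X 8 ≤ J := le_of_prime p8 n5 n6 m2
  have j0 : c.X 0 ≤ J := by
    obtain ⟨h1, h2⟩ := cn_rot P 4 (i1 := 10) (i2 := 2) (i3 := 0) (by decide) (by decide) (by decide) u hu hu1 v hv hv1
    exact le_of_prime hp h1 h2 (mul_mem (mul_mem (mul_mem (j10 hu) (j2 hv)) (inv_mem (j10 hu))) (inv_mem (j2 hv)))
  have j6 : c.X 6 ≤ J := by
    obtain ⟨h1, h2⟩ := cn_rot P 1 (i1 := 4) (i2 := 8) (i3 := 6) (by decide) (by decide) (by decide) z n1 n2 z8 n5 n6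
    exact le_of_prime p6 h1 h2 (mul_mem (mul_mem (mul_mem (j4 n1) (j8 n5)) (inv_mem (j4 n1))) (inv_mem (j8 n5)))
  refine iSup_le fun i => ?_
  have key : ∀ i : ZMod (2 * 6), 2 * i = 0 ∨ 2 * i = 2 ∨ 2 * i = 4 ∨ 2 * i = 6 ∨ 2 * i = 8 ∨ 2 * i = 10 := by
    decide
  rcases key i with h | h | h | h | h | h <;> rw [h] <;> assumption

/-- the order of the long root groups -/
theorem card_long : Nat.card (c.X 0) = Nat.card {t : E // σ t = t} := by
  rw [← card_rot (c := c) 1 (i1 := 2) (by decide)]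
  symm
  refine Nat.card_congr (Equiv.ofBijective (fun t => ⟨x2 t.1, m2 P t.2⟩) ⟨?_, ?_⟩)
  · rintro ⟨s, hs⟩ ⟨t, ht⟩ h
    exact Subtype.ext (P.inj2 _ _ hs ht (congrArg Subtype.val h))
  · rintro ⟨y, hy⟩
    obtain ⟨t, ht, rfl⟩ := (P.mem2 y).1 hy
    exact ⟨⟨t, ht⟩, rfl⟩

omit P in
theorem exists_s [Finite E] (h3 : 3 ≤ Nat.card E) : ∃ s : E, s ≠ 0 ∧ s ≠ 1 := by
  classical
  have := Fintype.ofFinite E
  by_contra hcon
  push Not at hcon
  have h5 : Fintype.card E ≤ ({0, 1} : Finset E).card := by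
    rw [← Finset.card_univ]
    refine Finset.card_le_card fun x _ => ?_
    rw [Finset.mem_insert, Finset.mem_singleton]
    by_cases hx : x = 0
    · exact Or.inl hx
    · exact Or.inr (hcon x hx)
  have h6 := Finset.card_le_two (a := (0 : E)) (b := 1)
  rw [Nat.card_eq_fintype_card] at h3
  omega

/-- **`G₂(p)`, `p ≥ 3` prime** -/
theorem reach_g2 [Finite E] (hE : (Nat.card E).Prime) (h3 : 3 ≤ Nat.card E) (hσ : ∀ e, σ e = e) (hg : Good c.r2)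
    (hgen : ⨆ i, c.X i = ⊤) (hO : OP a (c.X 0) (c.X 6)) : Reach a 6 ⊤ := by
  have hp : (Nat.card (c.X 0)).Prime := by
    rw [card_long P]
    have : Nat.card {t : E // σ t = t} = Nat.card E :=
      Nat.card_congr (Equiv.subtypeUnivEquiv hσ)
    rwa [this]
  obtain ⟨s, h0, h1⟩ := exists_s h3
  exact top_refl P hσ hg hgen h0 h1 hO (start_prime P hp hO)

omit P in
theorem fix_two (hσ : ∀ e, σ e = e ^ 2) : Nat.card {t : E // σ t = t} = 2 := by
  change Set.ncard {t : E | σ t = t} = 2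
  refine Set.ncard_eq_two.2 ⟨0, 1, zero_ne_one, ?_⟩
  ext t
  simp only [Set.mem_ofPred_eq, Set.mem_insert_iff, Set.mem_singleton_iff, hσ]
  constructor
  · intro h
    have h1 : t * (t - 1) = 0 := by linear_combination h
    rcases mul_eq_zero.1 h1 with h2 | h2
    · exact Or.inl h2
    · exact Or.inr (sub_eq_zero.1 h2)
  · rintro (rfl | rfl)
    · simp
    · simp

omit P in
theorem fix_three (hσ : ∀ e, σ e = e ^ 3) (h2 : (2 : E) ≠ 0) : Nat.card {t : E // σ t = t} = 3 := by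
  change Set.ncard {t : E | σ t = t} = 3
  have h1 : (1 : E) ≠ -1 := by
    intro h
    apply h2
    linear_combination h
  refine Set.ncard_eq_three.2 ⟨0, 1, -1, zero_ne_one, fun h => ?_, h1, ?_⟩
  · exact one_ne_zero (neg_eq_zero.1 h.symm)
  ext t
  simp only [Set.mem_ofPred_eq, Set.mem_insert_iff, Set.mem_singleton_iff, hσ]
  constructor
  · intro h
    have h1 : t * ((t - 1) * (t + 1)) = 0 := by linear_combination h
    rcases mul_eq_zero.1 h1 with h2 | h2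
    · exact Or.inl h2
    rcases mul_eq_zero.1 h2 with h3 | h3
    · exact Or.inr (Or.inl (sub_eq_zero.1 h3))
    · exact Or.inr (Or.inr (eq_neg_of_add_eq_zero_left h3))
  · rintro (rfl | rfl | rfl)
    · simp
    · simp
    · ring

/-- **`³D₄(3)`** -/
theorem reach_td4 [Fintype E] (hE : Fintype.card E = 27) (hσ : ∀ e, σ e = e ^ 3) (hg : Good c.r2)
    (hgen : ⨆ i, c.X i = ⊤) (hO : OP a (c.X 0) (c.X 6)) : Reach a 8 ⊤ := by
  have h2 : (2 : E) ≠ 0 := by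
    intro h
    have h3 : ((27 : ℕ) : E) = 0 := by rw [← hE]; exact Nat.cast_card_eq_zero E
    have h4 : (1 : E) = 0 := by
      push_cast at h3
      linear_combination h3 - 13 * h
    exact one_ne_zero h4
  have hp : (Nat.card (c.X 0)).Prime := by
    rw [card_long P, fix_three hσ h2]
    exact Nat.prime_three
  obtain ⟨s, hs, h0, h1⟩ := exists_fixed (q := 3) le_rfl (by rw [hE]; norm_num)
  exact top_td4 P hg hgen (s := s) (by rw [hσ, hs]) h0 h1 hO (start_prime P hp hO)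

/-- **`³D₄(2)`** -/
theorem reach_td4_two [Fintype E] (hE : Fintype.card E = 8) (hσ : ∀ e, σ e = e ^ 2) (hg : Good c.r2)
    (hgen : ⨆ i, c.X i = ⊤) (hO : OP a (c.X 0) (c.X 6)) : Reach a 10 ⊤ := by
  have hp : (Nat.card (c.X 0)).Prime := by
    rw [card_long P, fix_two hσ]
    exact Nat.prime_two
  obtain ⟨h2, h8, θ, hθ⟩ := exists_theta hE
  exact top_two P hg hgen hσ h8 hθ h2 hO (start_prime P hp hO)

end Hex

end Cfsg.Agent.H867.Gs.LongSL
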